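import Mathlib

/-!
A colouring of a finite abelian group with few colours that no automorphism but the identity preserves.

* `exists_rigid`: there are generators `g i` and a colouring `κ` with values in `Fin 4` such that
  every `κ`-preserving endomorphism that is bijective is the identity, and every non-zero `g i` and
  `g i + g j` has a non-zero colour.
-/

set_option autoImplicit false

namespace CfsgLib.ThreeVec49

section Coord

variable {k : ℕ} {n : Fin k → ℕ}

/-- The unit vectors. -/
def unitVec (i : Fin k) : (j : Fin k) → ZMod (n j) := Pi.single i 1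

/-- The basis vectors after the first. -/
def IsTail (x : (j : Fin k) → ZMod (n j)) : Prop := ∃ i : Fin k, (i : ℕ) ≠ 0 ∧ x = unitVec i

/-- The path. -/
def IsPath (x : (j : Fin k) → ZMod (n j)) : Prop :=
  (∃ i j : Fin k, (i : ℕ) + 1 = j ∧ x = unitVec i + unitVec j) ∨
    ∃ i : Fin k, (i : ℕ) = 0 ∧ x = unitVec i + unitVec i ∧ x ≠ 0

/-- The remaining sums of two unit vectors and the first unit vector. -/
def IsRest (x : (j : Fin k) → ZMod (n j)) : Prop :=
  (∃ i : Fin k, (i : ℕ) = 0 ∧ x = unitVec i) ∨
    (∃ i j : Fin k, (i : ℕ) + 2 ≤ j ∧ x = unitVec i + unitVec j) ∨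
    ∃ i : Fin k, (i : ℕ) ≠ 0 ∧ x = unitVec i + unitVec i ∧ x ≠ 0

open Classical in
/-- The colour. -/
noncomputable def colour (x : (j : Fin k) → ZMod (n j)) : Fin 4 :=
  if IsTail x then 3 else if IsPath x then 2 else if IsRest x then 1 else 0

theorem unitVec_apply_self (i : Fin k) : (unitVec i : (j : Fin k) → ZMod (n j)) i = 1 :=
  Pi.single_eq_same i 1

theorem unitVec_apply_ne {i j : Fin k} (h : j ≠ i) : (unitVec i : (j : Fin k) → ZMod (n j)) j = 0 :=
  Pi.single_eq_of_ne h 1

theorem colour_eq_three {x : (j : Fin k) → ZMod (n j)} (h : colour x = 3) : IsTail x := by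
  by_contra h'
  rw [colour, if_neg h'] at h
  split_ifs at h <;> exact absurd h (by decide)

theorem colour_eq_two {x : (j : Fin k) → ZMod (n j)} (h : colour x = 2) : IsPath x := by
  rw [colour] at h
  split_ifs at h with h1 h2 h3
  all_goals first | exact h2 | exact absurd h (by decide)

theorem colour_eq_one {x : (j : Fin k) → ZMod (n j)} (h : colour x = 1) : IsRest x := by
  rw [colour] at h
  split_ifs at h with h1 h2 h3
  all_goals first | exact h3 | exact absurd h (by decide)

theorem colour_ne_zero {x : (j : Fin k) → ZMod (n j)} (h : IsTail x ∨ IsPath x ∨ IsRest x) :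
    colour x ≠ 0 := by
  rw [colour]
  split_ifs with h1 h2 h3
  all_goals first | (rcases h with h | h | h <;> contradiction) | decide

variable (hn : ∀ i, 1 < n i)
include hn

theorem one_ne_zero' (i : Fin k) : (1 : ZMod (n i)) ≠ 0 := by
  haveI : Fact (1 < n i) := ⟨hn i⟩
  exact one_ne_zero

theorem unitVec_ne_zero (i : Fin k) : (unitVec i : (j : Fin k) → ZMod (n j)) ≠ 0 := fun h => by
  have h' := congrFun h i
  rw [unitVec_apply_self] at h'
  exact one_ne_zero' hn i h'

theorem unitVec_injective {i j : Fin k}
    (h : (unitVec i : (l : Fin k) → ZMod (n l)) = unitVec j) : i = j := by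
  by_contra hne
  have h' := congrFun h i
  rw [unitVec_apply_self, unitVec_apply_ne hne] at h'
  exact one_ne_zero' hn i h'

theorem not_unitVec_sum {i j l : Fin k} (hij : i ≠ j) :
    (unitVec i + unitVec j : (s : Fin k) → ZMod (n s)) ≠ unitVec l := fun h => by
  rcases eq_or_ne i l with rfl | hil
  · rw [add_eq_left] at h
    exact unitVec_ne_zero hn j h
  · have h' := congrFun h i
    rw [Pi.add_apply, unitVec_apply_self, unitVec_apply_ne hij, unitVec_apply_ne hil, add_zero] at h'
    exact one_ne_zero' hn i h'

theorem eq_or_of_sum_eq {i j a b : Fin k} (hij : i ≠ j) (hab : a ≠ b)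
    (h : (unitVec i + unitVec j : (l : Fin k) → ZMod (n l)) = unitVec a + unitVec b) :
    i = a ∨ i = b := by
  by_contra h'
  push Not at h'
  have h'' := congrFun h i
  rw [Pi.add_apply, Pi.add_apply, unitVec_apply_self, unitVec_apply_ne hij, unitVec_apply_ne h'.1,
    unitVec_apply_ne h'.2, add_zero, add_zero] at h''
  exact one_ne_zero' hn i h''

omit hn in
theorem colour_tail {i : Fin k} (hi : (i : ℕ) ≠ 0) :
    colour (unitVec i : (j : Fin k) → ZMod (n j)) = 3 := by
  rw [colour, if_pos ⟨i, hi, rfl⟩]

theorem colour_first {i : Fin k} (hi : (i : ℕ) = 0) :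
    colour (unitVec i : (j : Fin k) → ZMod (n j)) = 1 := by
  have h1 : ¬ IsTail (unitVec i : (j : Fin k) → ZMod (n j)) := by
    rintro ⟨j, hj, h⟩
    exact hj (unitVec_injective hn h ▸ hi)
  have h2 : ¬ IsPath (unitVec i : (j : Fin k) → ZMod (n j)) := by
    rintro (⟨a, b, hab, h⟩ | ⟨a, ha, h, -⟩)
    · exact not_unitVec_sum hn (fun e => by rw [e] at hab; omega) h.symm
    · obtain rfl : i = a := Fin.ext (by omega)
      exact unitVec_ne_zero hn i (left_eq_add.1 h)
  rw [colour, if_neg h1, if_neg h2, if_pos (show IsRest _ from Or.inl ⟨i, hi, rfl⟩)]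

theorem colour_path {i j : Fin k} (hij : (i : ℕ) + 1 = j) :
    colour (unitVec i + unitVec j : (l : Fin k) → ZMod (n l)) = 2 := by
  have h1 : ¬ IsTail (unitVec i + unitVec j : (l : Fin k) → ZMod (n l)) := by
    rintro ⟨l, -, h⟩
    exact not_unitVec_sum hn (fun e => by rw [e] at hij; omega) h
  rw [colour, if_neg h1, if_pos (show IsPath _ from Or.inl ⟨i, j, hij, rfl⟩)]

/-- The rigidity. -/
theorem eq_self_of_colour (σ : ((j : Fin k) → ZMod (n j)) →+ ((j : Fin k) → ZMod (n j)))
    (hσ : Function.Bijective σ) (hcol : ∀ x, colour (σ x) = colour x) (i : Fin k) :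
    σ (unitVec i) = unitVec i := by
  have htail : ∀ j : Fin k, (j : ℕ) ≠ 0 → ∃ b : Fin k, (b : ℕ) ≠ 0 ∧ σ (unitVec j) = unitVec b :=
    fun j hj => colour_eq_three (by rw [hcol, colour_tail hj])
  have hz : 0 < k := lt_of_le_of_lt (Nat.zero_le _) i.2
  set o : Fin k := ⟨0, hz⟩ with ho
  -- the image of the first vector involves the first coordinate
  have hne : σ (unitVec o) o ≠ 0 := by
    intro h0
    let π : ((j : Fin k) → ZMod (n j)) →+ ZMod (n o) :=
      (Pi.evalAddMonoidHom (fun j => ZMod (n j)) o).comp σ
    have hπ : π = 0 := by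
      refine AddMonoidHom.functions_ext _ _ _ fun j z => ?_
      have hj : π (unitVec j) = 0 := by
        by_cases hj : (j : ℕ) = 0
        · rw [show j = o from Fin.ext hj]; exact h0
        · obtain ⟨b, hb, he⟩ := htail j hj
          show σ (unitVec j) o = 0
          rw [he]
          exact unitVec_apply_ne fun e => hb (by rw [← e])
      obtain ⟨z, rfl⟩ := ZMod.intCast_surjective z
      have hsingle : (Pi.single j (z : ZMod (n j)) : (l : Fin k) → ZMod (n l)) = z • unitVec j := by
        rw [unitVec, ← Pi.single_smul, zsmul_one]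
      rw [hsingle, map_zsmul, hj, smul_zero, AddMonoidHom.zero_apply]
    obtain ⟨x, hx⟩ := hσ.2 (unitVec o)
    have h := DFunLike.congr_fun hπ x
    change σ x o = 0 at h
    rw [hx, unitVec_apply_self] at h
    exact one_ne_zero' hn o h
  have hfirst : σ (unitVec o) = unitVec o ∨
      ∃ b : Fin k, 2 ≤ (b : ℕ) ∧ σ (unitVec o) = unitVec o + unitVec b := by
    rcases colour_eq_one (x := σ (unitVec o)) (by rw [hcol, colour_first hn rfl]) with
      ⟨a, ha, h⟩ | ⟨a, b, hab, h⟩ | ⟨a, ha, h, -⟩
    · exact Or.inl (by rw [h, show a = o from Fin.ext ha])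
    · have ha : a = o := by
        by_contra ha
        refine hne ?_
        rw [h, Pi.add_apply, unitVec_apply_ne (Ne.symm ha), unitVec_apply_ne, add_zero]
        intro e
        rw [← e] at hab
        simp [ho] at hab
      subst ha
      exact Or.inr ⟨b, by simpa [ho] using hab, h⟩
    · refine absurd ?_ hne
      rw [h, Pi.add_apply, unitVec_apply_ne fun e : o = a => ha (by rw [← e]), add_zero]
  suffices H : ∀ (m : ℕ) (hm : m < k), σ (unitVec ⟨m, hm⟩) = unitVec ⟨m, hm⟩ from H i i.2
  intro m
  induction m using Nat.strong_induction_on with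
  | _ m ih =>
  intro hm
  rcases Nat.eq_zero_or_pos m with rfl | hm0
  · rcases hfirst with h | ⟨b, hb, h⟩
    · exact h
    exfalso
    -- look at the first edge
    have hk : 1 < k := lt_of_lt_of_le (by omega : 1 < (b : ℕ)) b.2.le
    set l : Fin k := ⟨1, hk⟩ with hl
    obtain ⟨c, hc, hc'⟩ := htail l (by simp [hl])
    have hol : (o : ℕ) + 1 = (l : ℕ) := by simp [ho, hl]
    have hob : o ≠ b := fun e => by rw [← e] at hb; simp [ho] at hb
    have hoc : o ≠ c := fun e => hc (by rw [← e])
    rcases colour_eq_two (x := σ (unitVec o + unitVec l)) (by rw [hcol, colour_path hn hol]) with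
      ⟨a, a', ha, he⟩ | ⟨a, ha, he, he0⟩
    · rw [map_add, h, hc'] at he
      by_cases hbc : b = c
      · subst hbc
        have h' := congrFun he o
        rw [Pi.add_apply, Pi.add_apply, Pi.add_apply, unitVec_apply_self, unitVec_apply_ne hob] at h'
        have ha0 : a = o := by
          by_contra hao
          rw [unitVec_apply_ne (Ne.symm hao), unitVec_apply_ne] at h'
          · exact one_ne_zero' hn o (by simpa using h')
          · intro e
            rw [← e] at ha
            simp [ho] at ha
        subst ha0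
        have ha1 : a' = l := Fin.ext (by simp [ho, hl] at ha ⊢; omega)
        subst ha1
        have h'' := congrFun he l
        rw [Pi.add_apply, Pi.add_apply, Pi.add_apply, unitVec_apply_self,
          unitVec_apply_ne (fun e : l = b => by rw [← e] at hb; simp [hl] at hb),
          unitVec_apply_ne (fun e : l = o => by rw [e] at hol; omega)] at h''
        exact one_ne_zero' hn l (by simpa using h''.symm)
      · have h' := congrFun he b
        rw [Pi.add_apply, Pi.add_apply, Pi.add_apply, unitVec_apply_self,
          unitVec_apply_ne (Ne.symm hob), unitVec_apply_ne hbc, zero_add, add_zero] at h'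
        have h'' := congrFun he o
        rw [Pi.add_apply, Pi.add_apply, Pi.add_apply, unitVec_apply_self,
          unitVec_apply_ne hob, unitVec_apply_ne hoc, add_zero, add_zero] at h''
        have ha0 : a = o := by
          by_contra hao
          rw [unitVec_apply_ne (Ne.symm hao), unitVec_apply_ne, add_zero] at h''
          · exact one_ne_zero' hn o h''
          · intro e
            rw [← e] at ha
            simp [ho] at ha
        subst ha0
        have hba' : b ≠ a' := fun e => by rw [e] at hb; simp [ho] at ha; omega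
        rw [unitVec_apply_ne (Ne.symm hob), unitVec_apply_ne hba', add_zero] at h'
        exact one_ne_zero' hn b h'
    · obtain rfl : a = o := Fin.ext ha
      rw [map_add, h, hc'] at he
      have h' := congrFun he o
      rw [Pi.add_apply, Pi.add_apply, Pi.add_apply, unitVec_apply_self, unitVec_apply_ne hob,
        unitVec_apply_ne hoc, add_zero, add_zero] at h'
      exact one_ne_zero' hn o (left_eq_add.1 h')
  · -- follow the path
    set a : Fin k := ⟨m - 1, by omega⟩ with ha
    set i : Fin k := ⟨m, hm⟩ with hi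
    have hai : (a : ℕ) + 1 = (i : ℕ) := by simp [ha, hi]; omega
    have hfix : σ (unitVec a) = unitVec a := ih (m - 1) (by omega) (by omega)
    obtain ⟨b, hb, hb'⟩ := htail i (by simp [hi]; omega)
    have hba : b ≠ a := fun e => by
      have h := hσ.1 (hb'.trans (e ▸ hfix.symm) : σ (unitVec i) = σ (unitVec a))
      have := unitVec_injective hn h
      rw [this] at hai
      omega
    rcases colour_eq_two (x := σ (unitVec a + unitVec i)) (by rw [hcol, colour_path hn hai]) with
      ⟨c, c', hc, he⟩ | ⟨c, hc, he, he0⟩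
    · rw [map_add, hfix, hb'] at he
      have hcc : c ≠ c' := fun e => by rw [e] at hc; omega
      have h1 := eq_or_of_sum_eq hn hba.symm hcc he
      have h2 := eq_or_of_sum_eq hn hba hcc (by rw [add_comm]; exact he)
      have hbi : b = i := by
        rcases h1 with h1 | h1 <;> rcases h2 with h2 | h2
        · exact absurd (h2.trans h1.symm) hba
        · subst h1 h2; exact Fin.ext (by omega)
        · subst h1 h2
          -- the path cannot turn back
          exfalso
          have hm1 : (b : ℕ) < m - 1 := by simp only [ha] at hc; omega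
          have h := hσ.1 (hb'.trans (ih b (by omega) b.2).symm : σ (unitVec i) = σ (unitVec b))
          have := congrArg Fin.val (unitVec_injective hn h)
          simp [hi] at this
          omega
        · exact absurd (h2.trans h1.symm) hba
      rw [hb', hbi]
    · exfalso
      rw [map_add, hfix, hb'] at he
      have h' := congrFun he b
      rw [Pi.add_apply, Pi.add_apply, unitVec_apply_self, unitVec_apply_ne hba,
        unitVec_apply_ne (fun e : b = c => hb (by rw [e]; exact hc)), zero_add, add_zero] at h'
      exact one_ne_zero' hn b h'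

theorem colour_unit_ne_zero (i : Fin k) : colour (unitVec i : (j : Fin k) → ZMod (n j)) ≠ 0 := by
  by_cases hi : (i : ℕ) = 0
  · rw [colour_first hn hi]; decide
  · rw [colour_tail hi]; decide

omit hn in
theorem colour_pair_ne_zero (i j : Fin k)
    (h : (unitVec i + unitVec j : (l : Fin k) → ZMod (n l)) ≠ 0) :
    colour (unitVec i + unitVec j : (l : Fin k) → ZMod (n l)) ≠ 0 := by
  refine colour_ne_zero ?_
  rcases lt_trichotomy (i : ℕ) (j : ℕ) with hlt | heq | hgt
  · by_cases h1 : (i : ℕ) + 1 = j
    · exact Or.inr (Or.inl (Or.inl ⟨i, j, h1, rfl⟩))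
    · exact Or.inr (Or.inr (Or.inr (Or.inl ⟨i, j, by omega, rfl⟩)))
  · obtain rfl := Fin.ext heq
    by_cases h0 : (i : ℕ) = 0
    · exact Or.inr (Or.inl (Or.inr ⟨i, h0, rfl, h⟩))
    · exact Or.inr (Or.inr (Or.inr (Or.inr ⟨i, h0, rfl, h⟩)))
  · rw [add_comm]
    by_cases h1 : (j : ℕ) + 1 = i
    · exact Or.inr (Or.inl (Or.inl ⟨j, i, h1, rfl⟩))
    · exact Or.inr (Or.inr (Or.inr (Or.inl ⟨j, i, by omega, rfl⟩)))

end Coord

/-- A rigid colouring of a finite commutative group. -/
theorem exists_rigid (X : Type*) [CommGroup X] [Finite X] :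
    ∃ (k : ℕ) (g : Fin k → X) (κ : X → Fin 4), κ 1 = 0 ∧
      (∀ H : Subgroup X, (∀ i, g i ∈ H) → H = ⊤) ∧
      (∀ i, κ (g i) ≠ 0) ∧ (∀ i j, g i * g j ≠ 1 → κ (g i * g j) ≠ 0) ∧
      ∀ σ : X →* X, Function.Bijective σ → (∀ x, κ (σ x) = κ x) → ∀ x, σ x = x := by
  classical
  obtain ⟨ι, hι, n, hn, ⟨e⟩⟩ := AddCommGroup.equiv_directSum_zmod_of_finite' (Additive X)
  let eι := Fintype.equivFin ι
  set k := Fintype.card ι
  let m : Fin k → ℕ := fun i => n (eι.symm i)
  have hm : ∀ i, 1 < m i := fun i => hn _
  have f : ((j : Fin k) → ZMod (m j)) ≃+ Additive X :=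
    ((e.trans (DirectSum.addEquivProd fun i => ZMod (n i))).trans
      (RingEquiv.piCongrLeft (fun i => ZMod (n i)) eι.symm).symm.toAddEquiv).symm
  refine ⟨k, fun i => (f (unitVec i)).toMul, fun x => colour (f.symm (Additive.ofMul x)), ?_, ?_,
    fun i => ?_, fun i j hij => ?_, ?_⟩
  · show colour (f.symm (Additive.ofMul (1 : X))) = 0
    rw [ofMul_one, map_zero, colour]
    rw [if_neg, if_neg, if_neg]
    · rintro (⟨i, -, h⟩ | ⟨i, j, hij, h⟩ | ⟨i, -, -, h⟩)
      · exact unitVec_ne_zero hm i h.symm
      · have h' := congrFun h i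
        rw [Pi.add_apply, unitVec_apply_self, unitVec_apply_ne, add_zero] at h'
        · exact one_ne_zero' hm i h'.symm
        · intro e'; rw [← e'] at hij; omega
      · exact h rfl
    · rintro (⟨i, j, hij, h⟩ | ⟨i, -, -, h⟩)
      · have h' := congrFun h i
        rw [Pi.add_apply, unitVec_apply_self, unitVec_apply_ne, add_zero] at h'
        · exact one_ne_zero' hm i h'.symm
        · intro e'; rw [← e'] at hij; omega
      · exact h rfl
    · rintro ⟨i, -, h⟩
      exact unitVec_ne_zero hm i h.symm
  · intro H hH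
    refine eq_top_iff.2 fun x _ => ?_
    let S : AddSubgroup ((j : Fin k) → ZMod (m j)) := (Subgroup.toAddSubgroup H).comap f.toAddMonoidHom
    have hS : ∀ v, v ∈ S := fun v => by
      rw [← Finset.univ_sum_single v]
      refine sum_mem fun i _ => ?_
      obtain ⟨z, hz⟩ := ZMod.intCast_surjective (v i)
      rw [← hz, show (Pi.single i (z : ZMod (m i)) : (l : Fin k) → ZMod (m l)) = z • unitVec i by
        rw [unitVec, ← Pi.single_smul, zsmul_one]]
      exact S.zsmul_mem (show unitVec i ∈ S from hH i) z
    have := hS (f.symm (Additive.ofMul x))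
    simpa [S] using this
  · simpa using colour_unit_ne_zero hm i
  · have h : f (unitVec i + unitVec j) = Additive.ofMul ((f (unitVec i)).toMul * (f (unitVec j)).toMul) := by
      rw [map_add]; rfl
    show colour (f.symm (Additive.ofMul ((f (unitVec i)).toMul * (f (unitVec j)).toMul))) ≠ 0
    rw [← h, AddEquiv.symm_apply_apply]
    refine colour_pair_ne_zero i j fun h0 => hij ?_
    rw [h0, map_zero] at h
    exact (congrArg Additive.toMul h).symm
  · intro σ hσ hcol x
    let τ : ((j : Fin k) → ZMod (m j)) →+ ((j : Fin k) → ZMod (m j)) :=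
      f.symm.toAddMonoidHom.comp ((MonoidHom.toAdditive σ).comp f.toAddMonoidHom)
    have hτ : Function.Bijective τ := f.symm.bijective.comp (hσ.comp f.bijective)
    have hτcol : ∀ v, colour (τ v) = colour v := fun v => by
      have h := hcol (f v).toMul
      simp only [ofMul_toMul, AddEquiv.symm_apply_apply] at h
      exact h
    have hfix : τ = AddMonoidHom.id _ := by
      refine AddMonoidHom.functions_ext _ _ _ fun i z => ?_
      obtain ⟨z, rfl⟩ := ZMod.intCast_surjective z
      rw [show (Pi.single i (z : ZMod (m i)) : (l : Fin k) → ZMod (m l)) = z • unitVec i by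
        rw [unitVec, ← Pi.single_smul, zsmul_one], map_zsmul, eq_self_of_colour hm τ hτ hτcol i]
      rfl
    have h := DFunLike.congr_fun hfix (f.symm (Additive.ofMul x))
    simp only [τ, AddMonoidHom.coe_comp, Function.comp_apply, AddMonoidHom.id_apply,
      AddEquiv.coe_toAddMonoidHom, AddEquiv.apply_symm_apply] at h
    exact congrArg Additive.toMul (f.symm.injective h)

end CfsgLib.ThreeVec49
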