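import Mathlib
import Cfsg.Agent.Chars.Apps.Burnside

/-!
Five inequivalent triples with trivial common stabiliser.
-/

set_option autoImplicit false
set_option linter.style.haveILetI false

namespace CfsgLib.ThreeVec49

open scoped commutatorElement

section Transv

variable (R : Type) [CommRing R]

/-- An elementary transvection. -/
def elemTr (i j : Fin 3) (h : i ≠ j) : (Fin 3 → R) ≃ₗ[R] (Fin 3 → R) where
  toFun c := c + c j • Pi.single i 1
  invFun c := c - c j • Pi.single i 1
  map_add' a b := by rw [Pi.add_apply, add_smul]; abel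
  map_smul' r a := by rw [Pi.smul_apply, smul_eq_mul, mul_smul, RingHom.id_apply, smul_add]
  left_inv c := by
    simp [Pi.single_eq_of_ne h.symm]
  right_inv c := by
    simp [Pi.single_eq_of_ne h.symm]

variable {R}

theorem elemTr_apply (i j : Fin 3) (h : i ≠ j) (c : Fin 3 → R) :
    elemTr R i j h c = c + c j • Pi.single i 1 := rfl

theorem elemTr_inv_apply (i j : Fin 3) (h : i ≠ j) (c : Fin 3 → R) :
    (elemTr R i j h)⁻¹ c = c - c j • Pi.single i 1 := rfl

theorem comm_elemTr {i j k : Fin 3} (hij : i ≠ j) (hik : i ≠ k) (hkj : k ≠ j) :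
    ⁅elemTr R i k hik, elemTr R k j hkj⁆ = elemTr R i j hij := by
  refine LinearEquiv.ext fun c => ?_
  rw [commutatorElement_def, LinearEquiv.mul_apply, LinearEquiv.mul_apply, LinearEquiv.mul_apply]
  simp only [elemTr_apply, elemTr_inv_apply, Pi.add_apply, Pi.sub_apply, Pi.smul_apply, smul_eq_mul,
    Pi.single_eq_same, Pi.single_eq_of_ne hij.symm, Pi.single_eq_of_ne hik.symm, Pi.single_eq_of_ne hkj.symm,
    Pi.single_eq_of_ne hik, Pi.single_eq_of_ne hkj, mul_zero, mul_one, add_zero, sub_zero]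
  funext l
  simp only [Pi.add_apply, Pi.sub_apply, Pi.smul_apply, smul_eq_mul]
  ring

theorem not_isSolvable_gl3 [Nontrivial R] :
    ¬ Group.IsSolvable ((Fin 3 → R) ≃ₗ[R] (Fin 3 → R)) := by
  intro hs
  obtain ⟨n, hn⟩ := (Group.isSolvable_def _).1 hs
  have hmem : ∀ m (i j : Fin 3) (h : i ≠ j),
      elemTr R i j h ∈ derivedSeries ((Fin 3 → R) ≃ₗ[R] (Fin 3 → R)) m := by
    intro m
    induction m with
    | zero => intro i j h; exact Subgroup.mem_top _
    | succ m ih =>
      intro i j h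
      obtain ⟨k, hk1, hk2⟩ : ∃ k, i ≠ k ∧ k ≠ j := by
        revert i j; decide
      rw [derivedSeries_succ, ← comm_elemTr h hk1 hk2]
      exact Subgroup.commutator_mem_commutator (ih i k hk1) (ih k j hk2)
  have h1 := hmem n 0 1 (by decide)
  rw [hn, Subgroup.mem_bot] at h1
  have h2 := congrArg (fun f : (Fin 3 → R) ≃ₗ[R] (Fin 3 → R) => f (Pi.single 1 1) 0) h1
  simp [elemTr_apply] at h2

end Transv

theorem solvable_perm_four {α : Type*} [Finite α] (h : Nat.card α ≤ 4) : Group.IsSolvable (Equiv.Perm α) := by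
  refine CfsgLib.Chars.Apps.isSolvable_of_primeFactors_subset _ Nat.prime_two Nat.prime_three fun r hr hd => ?_
  rw [Nat.card_perm] at hd
  have := ((Nat.Prime.dvd_factorial hr).1 hd).trans h
  have hr2 := hr.two_le
  interval_cases r <;> first | omega | (exact absurd hr (by norm_num))

variable {H U : Type} [Group H] [Finite H] [AddCommGroup U] [Finite U] [DistribMulAction H U]

/-- Only elements acting trivially fix all members of the triple. -/
def IsRegTriple (H : Type) {U : Type} [SMul H U] (T : Fin 3 → U) : Prop :=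
  ∀ a : H, (∀ l, a • T l = T l) → ∀ u : U, a • u = u

theorem five_of_single {x : U} (hx : x ≠ 0) (hreg : ∀ a : H, a • x = x → ∀ u : U, a • u = u) :
    ∃ T : Fin 5 → Fin 3 → U, (∀ i, IsRegTriple H (T i)) ∧
      ∀ i j (a : H), (∀ l, a • T i l = T j l) → i = j := by
  refine ⟨![![x, 0, 0], ![0, x, 0], ![0, 0, x], ![x, x, 0], ![x, 0, x]], fun i a ha => ?_, fun i j a ha => ?_⟩
  · refine hreg a ?_
    fin_cases i
    exacts [ha 0, ha 1, ha 2, ha 0, ha 0]
  · have h0 := ha 0
    have h1 := ha 1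
    have h2 := ha 2
    fin_cases i <;> fin_cases j <;> first
      | rfl
      | (exfalso; simp [smul_eq_zero_iff_eq, hx, hx.symm] at h0 h1 h2)

theorem five_of_pair {x y : U} (hx : x ≠ 0) (hy : y ≠ 0) (hxy : x ≠ y)
    (hreg : ∀ a : H, a • x = x → a • y = y → ∀ u : U, a • u = u) :
    ∃ T : Fin 5 → Fin 3 → U, (∀ i, IsRegTriple H (T i)) ∧
      ∀ i j (a : H), (∀ l, a • T i l = T j l) → i = j := by
  refine ⟨![![x, y, 0], ![x, 0, y], ![0, x, y], ![x, y, x], ![x, y, y]], fun i a ha => ?_, fun i j a ha => ?_⟩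
  · fin_cases i
    exacts [hreg a (ha 0) (ha 1), hreg a (ha 0) (ha 2), hreg a (ha 1) (ha 2), hreg a (ha 0) (ha 1),
      hreg a (ha 0) (ha 1)]
  · have h0 := ha 0
    have h1 := ha 1
    have h2 := ha 2
    fin_cases i <;> fin_cases j <;> first
      | rfl
      | (exfalso; simp [smul_eq_zero_iff_eq, hx, hx.symm, hy, hy.symm] at h0 h1 h2; done)
      | exact absurd (h0.symm.trans h2) hxy
      | exact absurd (h2.symm.trans h0) hxy
      | exact absurd (h1.symm.trans h2) hxy.symm
      | exact absurd (h2.symm.trans h1) hxy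

theorem five_of_basis {p : ℕ} [Fact p.Prime] [Module (ZMod p) U] (hs : Group.IsSolvable H)
    (e : (Fin 3 → ZMod p) →ₗ[ZMod p] U) (he : Function.Injective e)
    (hreg : ∀ a : H, (∀ c, a • e c = e c) → ∀ u : U, a • u = u) :
    ∃ T : Fin 5 → Fin 3 → U, (∀ i, IsRegTriple H (T i)) ∧
      ∀ i j (a : H), (∀ l, a • T i l = T j l) → i = j := by
  classical
  let G := (Fin 3 → ZMod p) ≃ₗ[ZMod p] (Fin 3 → ZMod p)
  haveI : Finite G := Finite.of_injective (fun f => (f : (Fin 3 → ZMod p) → (Fin 3 → ZMod p))) DFunLike.coe_injective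
  let Q : Subgroup (G × H) :=
    { carrier := {w | ∀ c, w.2 • e c = e (w.1 c)}
      one_mem' := fun c => one_smul H (e c)
      mul_mem' := fun {w z} hw hz c => by
        show (w.2 * z.2) • e c = e (w.1 (z.1 c))
        rw [mul_smul, hz, hw]
      inv_mem' := fun {w} hw c => by
        show w.2⁻¹ • e c = e (w.1.symm c)
        rw [inv_smul_eq_iff, hw, LinearEquiv.apply_symm_apply] }
  haveI := hs
  haveI : Group.IsSolvable Q := Group.isSolvable_of_isSolvable_injective (f := (MonoidHom.snd G H).comp Q.subtype)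
    fun w z hwz => by
      have h2 : (w : G × H).2 = (z : G × H).2 := hwz
      refine Subtype.ext (Prod.ext (LinearEquiv.ext fun c => he ?_) h2)
      rw [← w.2 c, ← z.2 c, h2]
  let S : Subgroup G := ((MonoidHom.fst G H).comp Q.subtype).range
  haveI : Group.IsSolvable S := Group.isSolvable_of_surjective ((MonoidHom.fst G H).comp Q.subtype).rangeRestrict_surjective
  have hbig : 5 ≤ Nat.card (G ⧸ S) := by
    by_contra hlt
    push Not at hlt
    let ρ := MulAction.toPermHom G (G ⧸ S)
    haveI : Group.IsSolvable (Equiv.Perm (G ⧸ S)) := solvable_perm_four (by omega)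
    haveI : Group.IsSolvable ρ.ker := Group.isSolvable_of_isSolvable_injective (f := Subgroup.inclusion (K := S) fun g hg => by
      have h1 := Equiv.ext_iff.1 hg ((1 : G) : G ⧸ S)
      have h2 : ((g * 1 : G) : G ⧸ S) = ((1 : G) : G ⧸ S) := h1
      rw [QuotientGroup.eq, mul_one, mul_one, inv_mem_iff] at h2
      exact h2) (Subgroup.inclusion_injective _)
    exact not_isSolvable_gl3 (R := ZMod p)
      (Group.isSolvable_of_ker_le_range ρ.ker.subtype ρ (by rw [Subgroup.range_subtype]))
  haveI : Fintype (G ⧸ S) := Fintype.ofFinite _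
  obtain ⟨pt⟩ : Nonempty (Fin 5 ↪ G ⧸ S) := Function.Embedding.nonempty_of_card_le (by
    rw [Fintype.card_fin, ← Nat.card_eq_fintype_card]; exact hbig)
  have hlin : ∀ (a : H) (γ γ' : G), (∀ l, a • e (γ (Pi.single l 1)) = e (γ' (Pi.single l 1))) →
      ∀ c, a • e (γ c) = e (γ' c) := by
    intro a γ γ' h c
    have hlin' : ((DistribSMul.toAddMonoidHom U a).toZModLinearMap p).comp (e.comp γ.toLinearMap) =
        e.comp γ'.toLinearMap := by
      refine (Pi.basisFun (ZMod p) (Fin 3)).ext fun l => ?_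
      simp only [Pi.basisFun_apply]
      exact h l
    exact LinearMap.congr_fun hlin' c
  refine ⟨fun i l => e (((pt i).out)⁻¹ (Pi.single l 1)), fun i a ha => hreg a fun c => ?_, fun i j a ha => ?_⟩
  · have h := hlin a _ _ ha ((pt i).out c)
    rwa [← LinearEquiv.mul_apply, inv_mul_cancel, LinearEquiv.coe_one] at h
  · refine pt.injective ?_
    rw [← QuotientGroup.out_eq' (pt i), ← QuotientGroup.out_eq' (pt j), QuotientGroup.eq]
    have h := hlin a _ _ ha
    have hmem : ((pt j).out)⁻¹ * (pt i).out ∈ S := ⟨⟨(((pt j).out)⁻¹ * (pt i).out, a), fun c => by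
      have h1 := h ((pt i).out c)
      rw [← LinearEquiv.mul_apply, inv_mul_cancel, LinearEquiv.coe_one, id, ← LinearEquiv.mul_apply] at h1
      exact h1⟩, rfl⟩
    have h1 := inv_mem hmem
    rwa [mul_inv_rev, inv_inv] at h1

theorem five_of_indep {p : ℕ} [Fact p.Prime] [Module (ZMod p) U] (hs : Group.IsSolvable H)
    (h2 : ¬ ∃ x y : U, ∀ a : H, a • x = x → a • y = y → ∀ u : U, a • u = u) {x y z : U}
    (hreg : ∀ a : H, a • x = x → a • y = y → a • z = z → ∀ u : U, a • u = u) :
    ∃ T : Fin 5 → Fin 3 → U, (∀ i, IsRegTriple H (T i)) ∧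
      ∀ i j (a : H), (∀ l, a • T i l = T j l) → i = j := by
  have hsm : ∀ (a : H) (r : ZMod p) (w : U), a • r • w = r • a • w := fun a r w =>
    ZMod.map_smul (DistribSMul.toAddMonoidHom U a) r w
  let e : (Fin 3 → ZMod p) →ₗ[ZMod p] U :=
    (LinearMap.proj (R := ZMod p) (φ := fun _ : Fin 3 => ZMod p) 0).smulRight x +
      (LinearMap.proj (R := ZMod p) (φ := fun _ : Fin 3 => ZMod p) 1).smulRight y +
      (LinearMap.proj (R := ZMod p) (φ := fun _ : Fin 3 => ZMod p) 2).smulRight z
  have he : ∀ c : Fin 3 → ZMod p, e c = c 0 • x + c 1 • y + c 2 • z := fun c => rfl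
  refine five_of_basis hs e ((injective_iff_map_eq_zero e).2 fun c hc => ?_) fun a ha => ?_
  · rw [he] at hc
    by_contra hne
    refine h2 ?_
    obtain ⟨l, hl⟩ := Function.ne_iff.1 hne
    rw [Pi.zero_apply] at hl
    obtain rfl | rfl | rfl : l = 0 ∨ l = 1 ∨ l = 2 := by omega
    · refine ⟨y, z, fun a hay haz => hreg a ?_ hay haz⟩
      have hx : x = -(c 0)⁻¹ • (c 1 • y + c 2 • z) := by
        rw [neg_smul, eq_neg_iff_add_eq_zero, ← smul_right_injective U hl |>.eq_iff, smul_zero, smul_add,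
          smul_smul, mul_inv_cancel₀ hl, one_smul, ← add_assoc]
        exact hc
      rw [hx, hsm, smul_add, hsm, hsm, hay, haz]
    · refine ⟨x, z, fun a hax haz => hreg a hax ?_ haz⟩
      have hy : y = -(c 1)⁻¹ • (c 0 • x + c 2 • z) := by
        rw [neg_smul, eq_neg_iff_add_eq_zero, ← smul_right_injective U hl |>.eq_iff, smul_zero, smul_add,
          smul_smul, mul_inv_cancel₀ hl, one_smul, ← hc]
        abel
      rw [hy, hsm, smul_add, hsm, hsm, hax, haz]
    · refine ⟨x, y, fun a hax hay => hreg a hax hay ?_⟩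
      have hz : z = -(c 2)⁻¹ • (c 0 • x + c 1 • y) := by
        rw [neg_smul, eq_neg_iff_add_eq_zero, ← smul_right_injective U hl |>.eq_iff, smul_zero, smul_add,
          smul_smul, mul_inv_cancel₀ hl, one_smul, ← hc]
        abel
      rw [hz, hsm, smul_add, hsm, hsm, hax, hay]
  · refine hreg a ?_ ?_ ?_
    · simpa [he] using ha (Pi.single 0 1)
    · simpa [he] using ha (Pi.single 1 1)
    · simpa [he] using ha (Pi.single 2 1)


/-- Five inequivalent triples from one. -/
theorem exists_five [Nontrivial U] (hs : Group.IsSolvable H) {p : ℕ} (hp : p.Prime)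
    (hexp : ∀ u : U, p • u = 0)
    (htriple : ∃ x y z : U, ∀ a : H, a • x = x → a • y = y → a • z = z → ∀ u : U, a • u = u) :
    ∃ T : Fin 5 → Fin 3 → U, (∀ i, IsRegTriple H (T i)) ∧
      ∀ i j (a : H), (∀ l, a • T i l = T j l) → i = j := by
  by_cases h1 : ∃ x : U, x ≠ 0 ∧ ∀ a : H, a • x = x → ∀ u : U, a • u = u
  · obtain ⟨x, hx, hreg⟩ := h1
    exact five_of_single hx hreg
  by_cases h2 : ∃ x y : U, ∀ a : H, a • x = x → a • y = y → ∀ u : U, a • u = u
  · obtain ⟨x, y, hreg⟩ := h2
    push Not at h1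
    have hnt : ∃ a : H, ∃ u : U, a • u ≠ u := by
      obtain ⟨w, hw⟩ := exists_ne (0 : U)
      obtain ⟨a, -, u, hu⟩ := h1 w hw
      exact ⟨a, u, hu⟩
    refine five_of_pair (fun h0 => ?_) (fun h0 => ?_) (fun h0 => ?_) hreg
    · rcases eq_or_ne y 0 with hy | hy
      · obtain ⟨a, u, hu⟩ := hnt
        exact hu (hreg a (by rw [h0, smul_zero]) (by rw [hy, smul_zero]) u)
      · obtain ⟨a, ha, u, hu⟩ := h1 y hy
        exact hu (hreg a (by rw [h0, smul_zero]) ha u)
    · rcases eq_or_ne x 0 with hx | hx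
      · obtain ⟨a, u, hu⟩ := hnt
        exact hu (hreg a (by rw [hx, smul_zero]) (by rw [h0, smul_zero]) u)
      · obtain ⟨a, ha, u, hu⟩ := h1 x hx
        exact hu (hreg a ha (by rw [h0, smul_zero]) u)
    · rcases eq_or_ne x 0 with hx | hx
      · obtain ⟨a, u, hu⟩ := hnt
        exact hu (hreg a (by rw [hx, smul_zero]) (by rw [← h0, hx, smul_zero]) u)
      · obtain ⟨a, ha, u, hu⟩ := h1 x hx
        exact hu (hreg a ha (h0 ▸ ha) u)
  obtain ⟨x, y, z, hreg⟩ := htriple
  haveI := Fact.mk hp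
  letI : Module (ZMod p) U := AddCommGroup.zmodModule hexp
  exact five_of_indep (p := p) hs h2 hreg

end CfsgLib.ThreeVec49
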