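import Cfsg.Agent.OddPair.Split
import Cfsg.Agent.ThreeVec49.Colour
import Cfsg.Agent.ThreeVec49.Five

/-!
Three vectors with trivial common stabiliser for an irreducible module with a system of imprimitivity.
-/

set_option autoImplicit false
set_option linter.style.haveILetI false
set_option linter.unusedSectionVars false

namespace CfsgLib.ThreeVec49

open CfsgLib.OddPair
open scoped commutatorElement

/-- The theorem for modules with at most `n` vectors. -/
def TripleBelow (n : ℕ) : Prop :=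
  ∀ (V : Type) [AddCommGroup V] [Finite V], Nat.card V ≤ n →
    ∀ (A : Type) [Group A] [Finite A] [DistribMulAction A V], Group.IsSolvable A →
      IsCR A V → ∃ u v w : V, ∀ a : A, a • u = u → a • v = v → a • w = w → ∀ x : V, a • x = x

/-- Five colours for the cosets of a maximal subgroup. -/
theorem exists_colouring {A : Type} [Group A] [Finite A] [hs : Group.IsSolvable A] (H : Subgroup A)
    (hH : H ≠ ⊤) (hmax : ∀ M : Subgroup A, H < M → M = ⊤) :
    ∃ c : A ⧸ H → Fin 5, ∀ a : A, (∀ q : A ⧸ H, c (a • q) = c q) → ∀ q : A ⧸ H, a • q = q := by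
  classical
  let R := H.normalCore
  have hRH : R ≤ H := H.normalCore_le
  obtain ⟨N, ⟨hNn, hRN⟩, hNmin⟩ := Set.Finite.exists_minimalFor id
    {M : Subgroup A | M.Normal ∧ R < M} (Set.toFinite _)
    ⟨⊤, inferInstance, lt_of_le_of_lt hRH (lt_top_iff_ne_top.2 hH)⟩
  haveI := hNn
  -- the section is commutative
  have hcomm : ∀ x ∈ N, ∀ y ∈ N, ⁅x, y⁆ ∈ R := by
    let q := QuotientGroup.mk' R
    have hq := QuotientGroup.mk'_surjective R
    haveI : (N.map q).Normal := Subgroup.Normal.map inferInstance q hq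
    haveI : Group.IsSolvable (A ⧸ R) := Group.isSolvable_of_surjective hq
    have h1 : N.map q ≠ ⊥ := by
      rw [Ne, Subgroup.map_eq_bot_iff, QuotientGroup.ker_mk']
      exact not_le_of_gt hRN
    have h2 := OddPair.commutative_of_minimal (N.map q) h1 fun M hM hle => by
      by_cases hb : M = ⊥
      · exact Or.inl hb
      refine Or.inr (le_antisymm hle ?_)
      have hR : R < M.comap q := by
        refine lt_of_le_of_ne (fun x hx => ?_) fun h => hb ?_
        · show q x ∈ M
          rw [show q x = 1 from (QuotientGroup.eq_one_iff x).2 hx]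
          exact one_mem M
        · rw [← Subgroup.map_comap_eq_self_of_surjective hq M, ← h, QuotientGroup.map_mk'_self]
      have hle' : M.comap q ≤ N := fun x hx => by
        obtain ⟨n, hn, hnx⟩ := hle hx
        have h3 : n⁻¹ * x ∈ R := QuotientGroup.eq.1 hnx
        have h4 := mul_mem hn (hRN.le h3)
        rwa [mul_inv_cancel_left] at h4
      have h5 : N ≤ M.comap q := hNmin (j := M.comap q) ⟨Subgroup.Normal.comap hM q, hR⟩ hle'
      exact (Subgroup.map_mono h5).trans (Subgroup.map_comap_le q M)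
    intro x hx y hy
    rw [← QuotientGroup.eq_one_iff]
    show q ⁅x, y⁆ = 1
    rw [map_commutatorElement, commutatorElement_eq_one_iff_mul_comm]
    exact h2 _ ⟨x, hx, rfl⟩ _ ⟨y, hy, rfl⟩
  have hNH : ¬ N ≤ H := fun h => not_le_of_gt hRN (Subgroup.normal_le_normalCore.2 h)
  have htop : N ⊔ H = ⊤ := hmax _ (lt_of_le_of_ne le_sup_right fun h => hNH (h ▸ le_sup_left))
  have hinf : ∀ x ∈ N, x ∈ H → x ∈ R := by
    intro x hxN hxH
    have hnorm : (N ⊓ H).Normal := by
      refine ⟨fun y hy g => ?_⟩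
      obtain ⟨n, hn, h, hh, rfl⟩ := Subgroup.mem_sup_of_normal_left.1 (htop.ge (Subgroup.mem_top g))
      have h1 : h * y * h⁻¹ ∈ N ⊓ H :=
        Subgroup.mem_inf.2 ⟨hNn.conj_mem y hy.1 h, H.mul_mem (H.mul_mem hh hy.2) (H.inv_mem hh)⟩
      have h2 : n * h * y * (n * h)⁻¹ = ⁅n, h * y * h⁻¹⁆ * (h * y * h⁻¹) := by
        rw [commutatorElement_def]; group
      rw [h2]
      have h3 := hcomm n hn _ h1.1
      exact mul_mem ⟨hRN.le h3, hRH h3⟩ h1
    exact Subgroup.normal_le_normalCore.2 inf_le_right ⟨hxN, hxH⟩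
  haveI : (R.subgroupOf N).Normal := Subgroup.Normal.subgroupOf inferInstance N
  let gr : Group (N ⧸ R.subgroupOf N) := inferInstance
  letI : CommGroup (N ⧸ R.subgroupOf N) := { gr with
    mul_comm := fun a b => by
      induction a using QuotientGroup.induction_on with
      | _ x =>
        induction b using QuotientGroup.induction_on with
        | _ y =>
          refine (QuotientGroup.eq).2 ?_
          rw [Subgroup.mem_subgroupOf]
          have h1 : (((x * y)⁻¹ * (y * x) : N) : A) = ⁅(y : A)⁻¹, (x : A)⁻¹⁆ := by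
            push_cast; rw [commutatorElement_def]; group
          rw [h1]
          exact hcomm _ (inv_mem y.2) _ (inv_mem x.2) }
  obtain ⟨k, g, κ, -, -, -, -, hrigid⟩ := exists_rigid (N ⧸ R.subgroupOf N)
  let mkN : N →* N ⧸ R.subgroupOf N := QuotientGroup.mk' _
  let pt : A ⧸ H := QuotientGroup.mk 1
  have hnof : ∀ q : A ⧸ H, ∃ n : N, (n : A) • pt = q := by
    intro q
    induction q using QuotientGroup.induction_on with
    | _ a =>
      obtain ⟨n, hn, h, hh, rfl⟩ := Subgroup.mem_sup_of_normal_left.1 (htop.ge (Subgroup.mem_top a))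
      refine ⟨⟨n, hn⟩, ?_⟩
      show (QuotientGroup.mk (n * 1) : A ⧸ H) = QuotientGroup.mk (n * h)
      rw [QuotientGroup.eq]
      simpa [mul_assoc] using hh
  choose nOf hnOf using hnof
  have huniq : ∀ n m : N, (n : A) • pt = (m : A) • pt → mkN n = mkN m := by
    intro n m h
    refine (QuotientGroup.eq).2 ?_
    rw [Subgroup.mem_subgroupOf]
    have h1 : (QuotientGroup.mk ((n : A) * 1) : A ⧸ H) = QuotientGroup.mk ((m : A) * 1) := h
    rw [QuotientGroup.eq, mul_one, mul_one] at h1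
    exact hinf _ (n⁻¹ * m).2 h1
  refine ⟨fun q => if q = pt then 4 else (κ (mkN (nOf q))).castSucc, fun a ha q => ?_⟩
  have hfix : a • pt = pt := by
    by_contra hne
    have h := ha pt
    simp only [hne, if_false, if_true] at h
    exact Fin.castSucc_ne_last _ h
  have hconj : ∀ n : N, a * (n : A) * a⁻¹ ∈ N := fun n => hNn.conj_mem _ n.2 a
  have hmove : ∀ n : N, a • (n : A) • pt = (a * (n : A) * a⁻¹) • pt := fun n => by
    conv_rhs => rw [← hfix]
    rw [← mul_smul, ← mul_smul]; congr 1; group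
  let ca : N →* N :=
    { toFun := fun n => ⟨a * (n : A) * a⁻¹, hconj n⟩
      map_one' := Subtype.ext (by simp)
      map_mul' := fun x y => Subtype.ext (by push_cast; group) }
  let τ : N ⧸ R.subgroupOf N →* N ⧸ R.subgroupOf N := QuotientGroup.map _ _ ca fun n hn => by
    rw [Subgroup.mem_comap, Subgroup.mem_subgroupOf]
    exact (Subgroup.normalCore_normal H).conj_mem _ (Subgroup.mem_subgroupOf.1 hn) a
  have hτ : ∀ n : N, τ (mkN n) = mkN (ca n) := fun n => rfl
  have hinj : Function.Injective τ := (injective_iff_map_eq_one τ).2 fun x hx => by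
    obtain ⟨n, rfl⟩ := QuotientGroup.mk'_surjective (R.subgroupOf N) x
    have h1 : mkN (ca n) = 1 := hx
    rw [QuotientGroup.mk'_apply, QuotientGroup.eq_one_iff, Subgroup.mem_subgroupOf] at h1
    rw [QuotientGroup.mk'_apply, QuotientGroup.eq_one_iff, Subgroup.mem_subgroupOf]
    have h2 := (Subgroup.normalCore_normal H).conj_mem _ h1 a⁻¹
    rwa [show a⁻¹ * ((ca n : N) : A) * a⁻¹⁻¹ = n by show a⁻¹ * (a * (n : A) * a⁻¹) * a⁻¹⁻¹ = _; group] at h2
  have hτid : ∀ x, τ x = x := hrigid τ (Finite.injective_iff_bijective.1 hinj) fun x => by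
    obtain ⟨n, rfl⟩ := QuotientGroup.mk'_surjective (R.subgroupOf N) x
    rcases eq_or_ne ((n : A) • pt) pt with h1 | h1
    · have h2 : mkN n = 1 := by
        rw [← map_one mkN]; exact huniq n 1 (by rw [h1, OneMemClass.coe_one, one_smul])
      show κ (τ (mkN n)) = κ (mkN n)
      rw [h2, map_one]
    · have h := ha ((n : A) • pt)
      have h2 : a • (n : A) • pt ≠ pt := fun e => h1 (by
        rwa [← hfix, smul_left_cancel_iff, hfix] at e)
      simp only [if_neg h1, if_neg h2, Fin.castSucc_inj] at h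
      show κ (mkN (ca n)) = κ (mkN n)
      rw [← huniq _ (ca n) ((hnOf _).trans (hmove n)), ← huniq _ n (hnOf ((n : A) • pt))]
      exact h
  rw [← hnOf q, hmove]
  have h1 : mkN (ca (nOf q)) = mkN (nOf q) := (hτ _).symm.trans (hτid _)
  replace h1 := QuotientGroup.eq.1 h1
  rw [Subgroup.mem_subgroupOf] at h1
  show (QuotientGroup.mk (a * (nOf q : A) * a⁻¹ * 1) : A ⧸ H) = QuotientGroup.mk ((nOf q : A) * 1)
  rw [QuotientGroup.eq, mul_one, mul_one]
  exact hRH h1

variable {A V : Type} [Group A] [Finite A] [AddCommGroup V] [Finite V] [DistribMulAction A V]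

/-- A system of imprimitivity on the cosets of a maximal subgroup. -/
theorem triple_of_maximal {n : ℕ} (IH : TripleBelow n) (hV : Nat.card V ≤ n + 1)
    (hs : Group.IsSolvable A) (hirr : IsIrr A V) (H : Subgroup A) (hH : H ≠ ⊤)
    (hmax : ∀ M : Subgroup A, H < M → M = ⊤) (W : A ⧸ H → AddSubgroup V) (hW0 : ∀ q, W q ≠ ⊥)
    (hmove : ∀ (a : A) (q : A ⧸ H), ∀ v ∈ W q, a • v ∈ W (a • q))
    (hind : ∀ [Fintype (A ⧸ H)], ∀ f : A ⧸ H → V, (∀ q, f q ∈ W q) → ∑ q, f q = 0 → ∀ q, f q = 0) :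
    ∃ u v w : V, ∀ a : A, a • u = u → a • v = v → a • w = w → ∀ x : V, a • x = x := by
  classical
  haveI := hs
  letI : Fintype (A ⧸ H) := Fintype.ofFinite _
  let pt : A ⧸ H := QuotientGroup.mk 1
  obtain ⟨t, ht, ht1⟩ : ∃ t : A ⧸ H → A, (∀ q, t q • pt = q) ∧ t pt = 1 := by
    refine ⟨Function.update Quotient.out pt 1, fun q => ?_, Function.update_self ..⟩
    rcases eq_or_ne q pt with rfl | hq
    · rw [Function.update_self, one_smul]
    · rw [Function.update_of_ne hq]
      show (QuotientGroup.mk (q.out * 1) : A ⧸ H) = q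
      rw [mul_one, QuotientGroup.out_eq']
  have hHpt : ∀ a : H, (a : A) • pt = pt := fun a => by
    show (QuotientGroup.mk ((a : A) * 1) : A ⧸ H) = QuotientGroup.mk 1
    rw [QuotientGroup.eq]; simp
  have hptH : ∀ a : A, a • pt = pt → a ∈ H := fun a ha => by
    have h1 : (QuotientGroup.mk (a * 1) : A ⧸ H) = QuotientGroup.mk 1 := ha
    rw [QuotientGroup.eq] at h1
    simpa using h1
  have hHW : ∀ (a : H) (x : V), x ∈ W pt → (a : A) • x ∈ W pt := fun a x hx => by
    have h := hmove a pt x hx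
    rwa [hHpt] at h
  letI : DistribMulAction H (W pt) :=
    { smul := fun a x => ⟨(a : A) • (x : V), hHW a x x.2⟩
      one_smul := fun x => Subtype.ext (one_smul A (x : V))
      mul_smul := fun a b x => Subtype.ext (mul_smul (a : A) b (x : V))
      smul_zero := fun a => Subtype.ext (smul_zero (a : A))
      smul_add := fun a x y => Subtype.ext (smul_add (a : A) (x : V) y) }
  -- the translates of an invariant subgroup span
  have hspan : ∀ S : AddSubgroup (W pt), (∀ a : H, ∀ s ∈ S, a • s ∈ S) → S ≠ ⊥ →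
      ∀ x : V, ∃ f : A ⧸ H → W pt, (∀ q, f q ∈ S) ∧ ∑ q, t q • (f q : V) = x := by
    intro S hS hS0
    let S' : AddSubgroup V :=
      { carrier := {x | ∃ f : A ⧸ H → W pt, (∀ q, f q ∈ S) ∧ ∑ q, t q • (f q : V) = x}
        zero_mem' := ⟨0, fun q => zero_mem S, by simp⟩
        add_mem' := fun {x y} ⟨f, hf, hx⟩ ⟨g, hg, hy⟩ => ⟨f + g, fun q => add_mem (hf q) (hg q), by
          simp [smul_add, Finset.sum_add_distrib, hx, hy]⟩
        neg_mem' := fun {x} ⟨f, hf, hx⟩ => ⟨-f, fun q => neg_mem (hf q), by simp [hx]⟩ }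
    have htop : S' = ⊤ := by
      refine (hirr S' ?_).resolve_left ?_
      · rintro a y ⟨f, hf, rfl⟩
        have hc : ∀ q, (t q)⁻¹ * a * t (a⁻¹ • q) ∈ H := fun q => hptH _ (by
          rw [mul_smul, mul_smul, ht, smul_inv_smul, inv_smul_eq_iff, ht])
        refine ⟨fun q => (⟨_, hc q⟩ : H) • f (a⁻¹ • q), fun q => hS _ _ (hf _), ?_⟩
        rw [Finset.smul_sum]
        refine Fintype.sum_equiv (MulAction.toPerm a⁻¹) _ _ fun q => ?_
        show t q • (((t q)⁻¹ * a * t (a⁻¹ • q)) • (f (a⁻¹ • q) : V)) = a • t (a⁻¹ • q) • (f (a⁻¹ • q) : V)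
        rw [← mul_smul, ← mul_smul]; congr 1; group
      · intro h
        obtain ⟨⟨s, hs'⟩, hs0⟩ := AddSubgroup.ne_bot_iff_exists_ne_zero.mp hS0
        have hm : (s : V) ∈ S' := ⟨Pi.single pt s, fun q => by
          rcases eq_or_ne q pt with rfl | hq
          · simpa using hs'
          · simp [hq], by
          rw [Finset.sum_eq_single pt (fun q _ hq => by simp [hq]) (fun h => absurd (Finset.mem_univ _) h)]
          simp [ht1]⟩
        rw [h, AddSubgroup.mem_bot] at hm
        exact hs0 (Subtype.ext (Subtype.ext hm))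
    exact fun x => htop.ge (AddSubgroup.mem_top x)
  have hmem : ∀ (q : A ⧸ H) (y : W pt), t q • (y : V) ∈ W q := fun q y => by
    have h := hmove (t q) pt _ y.2
    rwa [ht] at h
  have huniq : ∀ f g : A ⧸ H → W pt, ∑ q, t q • (f q : V) = ∑ q, t q • (g q : V) → f = g := by
    intro f g h
    funext q
    have h1 := hind (fun q => t q • (f q : V) - t q • (g q : V)) (fun q => sub_mem (hmem q _) (hmem q _))
      (by rw [Finset.sum_sub_distrib, h, sub_self]) q
    exact Subtype.ext (smul_left_cancel _ (sub_eq_zero.1 h1))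
  have hirr₀ : IsIrr H (W pt) := by
    intro S hS
    by_cases hS0 : S = ⊥
    · exact Or.inl hS0
    refine Or.inr (eq_top_iff.2 fun x _ => ?_)
    obtain ⟨f, hf, hfx⟩ := hspan S hS hS0 (x : V)
    have h := huniq f (Pi.single pt x) (by
      rw [hfx, Finset.sum_eq_single pt (fun q _ hq => by simp [hq]) (fun h => absurd (Finset.mem_univ _) h)]
      simp [ht1])
    have h1 := hf pt
    rwa [h, Pi.single_eq_same] at h1
  have hWlt : Nat.card (W pt) < Nat.card V := by
    obtain ⟨a, ha⟩ := SetLike.exists_not_mem_of_ne_top H hH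
    let q : A ⧸ H := a • pt
    have hq : q ≠ pt := fun h => ha (hptH a h)
    obtain ⟨⟨y, hy⟩, hy0⟩ := AddSubgroup.ne_bot_iff_exists_ne_zero.mp (hW0 q)
    refine Finite.card_subtype_lt (p := (· ∈ W pt)) (x := y) fun hmem' => hy0 (Subtype.ext ?_)
    have h := hind (Pi.single q y - Pi.single pt y) (fun l => sub_mem (by
        rcases eq_or_ne l q with rfl | hl
        · simpa using hy
        · simp [hl]) (by
        rcases eq_or_ne l pt with rfl | hl
        · simpa using hmem'
        · simp [hl])) (by simp [Finset.sum_sub_distrib]) q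
    simpa [hq] using h
  haveI : Nontrivial (W pt) := (AddSubgroup.nontrivial_iff_ne_bot _).2 (hW0 pt)
  obtain ⟨x, y, z, hxyz⟩ := IH (W pt) (by omega) H inferInstance hirr₀.isCR
  -- the exponent
  haveI : Nontrivial V := Function.Injective.nontrivial (f := ((↑) : W pt → V)) Subtype.val_injective
  obtain ⟨p, hp, hpV⟩ := Nat.exists_prime_and_dvd (n := Nat.card V) (by
    have := Finite.one_lt_card (α := V); omega)
  have hexp : ∀ w : V, p • w = 0 := by
    haveI := Fact.mk hp
    obtain ⟨w₀, hw₀⟩ := exists_prime_addOrderOf_dvd_card' (G := V) p hpV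
    let Kp : AddSubgroup V := (nsmulAddMonoidHom (α := V) p).ker
    have hKp : Kp = ⊤ := by
      refine (hirr Kp fun a w hw => ?_).resolve_left fun h => ?_
      · show p • DistribSMul.toAddMonoidHom V a w = 0
        rw [← map_nsmul, show p • w = 0 from hw, map_zero]
      · have hm : w₀ ∈ Kp := by
          show p • w₀ = 0
          rw [← hw₀]; exact addOrderOf_nsmul_eq_zero w₀
        rw [h, AddSubgroup.mem_bot] at hm
        rw [hm, addOrderOf_zero] at hw₀
        exact hp.one_lt.ne hw₀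
    exact fun w => (hKp.ge (AddSubgroup.mem_top w) : w ∈ Kp)
  obtain ⟨T, hT, hT'⟩ := exists_five (H := H) (U := W pt) inferInstance hp
    (fun w => Subtype.ext (by simpa using hexp (w : V))) ⟨x, y, z, hxyz⟩
  obtain ⟨col, hcol⟩ := exists_colouring H hH hmax
  let F : Fin 3 → V := fun l => ∑ q, t q • (T (col q) l : V)
  refine ⟨F 0, F 1, F 2, fun a h0 h1 h2 => ?_⟩
  have hF : ∀ l, a • F l = F l := by
    intro l
    fin_cases l
    exacts [h0, h1, h2]
  have hc : ∀ q, (t (a • q))⁻¹ * a * t q ∈ H := fun q => hptH _ (by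
    rw [mul_smul, mul_smul, ht, inv_smul_eq_iff, ht])
  have hlab : ∀ q l, (⟨_, hc q⟩ : H) • T (col q) l = T (col (a • q)) l := by
    intro q l
    let e := MulAction.toPerm a (β := A ⧸ H)
    have h := huniq (fun r => (⟨_, hc (e.symm r)⟩ : H) • T (col (e.symm r)) l) (fun r => T (col r) l) (by
      refine Eq.trans ?_ (hF l)
      show _ = a • ∑ q, t q • (T (col q) l : V)
      rw [Finset.smul_sum]
      refine Fintype.sum_equiv e.symm _ _ fun r => ?_
      show t r • (((t (a • e.symm r))⁻¹ * a * t (e.symm r)) • (T (col (e.symm r)) l : V)) = _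
      rw [show a • e.symm r = r from e.apply_symm_apply r, ← mul_smul, ← mul_smul]; congr 1; group)
    have h' := congrFun h (e q)
    simp only [Equiv.symm_apply_apply] at h'
    exact h'
  have hqfix := hcol a fun q => (hT' _ _ _ (hlab q)).symm
  intro w
  obtain ⟨f, -, rfl⟩ := hspan ⊤ (fun _ _ _ => AddSubgroup.mem_top _)
    (fun h => by
      obtain ⟨w, hw⟩ := exists_ne (0 : W pt)
      exact hw (AddSubgroup.mem_bot.1 (h ▸ AddSubgroup.mem_top w))) w
  rw [Finset.smul_sum]
  refine Finset.sum_congr rfl fun q _ => ?_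
  have hl := hlab q
  have h := hT (col q) ⟨_, hc q⟩ (fun l => (hl l).trans (by rw [hqfix q])) (f q)
  have h' : ((t (a • q))⁻¹ * a * t q) • (f q : V) = f q := congrArg Subtype.val h
  rw [hqfix q, mul_smul, mul_smul, inv_smul_eq_iff] at h'
  exact h'

/-- Any system of imprimitivity. -/
theorem triple_of_system {n : ℕ} (IH : TripleBelow n) (hV : Nat.card V ≤ n + 1)
    (hs : Group.IsSolvable A) (hirr : IsIrr A V) {ι : Type} [Fintype ι] [MulAction A ι]
    (hι : 2 ≤ Fintype.card ι) (W : ι → AddSubgroup V) (hW0 : ∀ i, W i ≠ ⊥)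
    (hmove : ∀ (a : A) (i : ι), ∀ v ∈ W i, a • v ∈ W (a • i))
    (hind : ∀ f : ι → V, (∀ i, f i ∈ W i) → ∑ i, f i = 0 → ∀ i, f i = 0) :
    ∃ u v w : V, ∀ a : A, a • u = u → a • v = v → a • w = w → ∀ x : V, a • x = x := by
  classical
  haveI : Nonempty ι := Fintype.card_pos_iff.mp (by omega)
  obtain ⟨i₀⟩ := ‹Nonempty ι›
  have hsingle : ∀ (i : ι) (x : V), x ∈ W i → ∀ j, (Pi.single i x : ι → V) j ∈ W j := by
    intro i x hx j
    rcases eq_or_ne j i with rfl | hj
    · simpa using hx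
    · simp [hj]
  have htrans : ∀ i : ι, ∃ a : A, a • i₀ = i := by
    intro i
    by_contra hne
    let U' : AddSubgroup V :=
      { carrier := {x | ∃ f : ι → V, (∀ j, f j ∈ W j) ∧ (∀ j, (¬ ∃ a : A, a • i₀ = j) → f j = 0) ∧ ∑ j, f j = x}
        zero_mem' := ⟨0, fun _ => zero_mem _, fun _ _ => rfl, by simp⟩
        add_mem' := fun {x y} ⟨f, hf, hf', hx⟩ ⟨g, hg, hg', hy⟩ => ⟨f + g, fun j => add_mem (hf j) (hg j),
          fun j hj => by simp [hf' j hj, hg' j hj], by simp [Finset.sum_add_distrib, hx, hy]⟩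
        neg_mem' := fun {x} ⟨f, hf, hf', hx⟩ => ⟨-f, fun j => neg_mem (hf j),
          fun j hj => by simp [hf' j hj], by simp [hx]⟩ }
    have htop : U' = ⊤ := by
      refine (hirr U' ?_).resolve_left ?_
      · rintro a x ⟨f, hf, hf', rfl⟩
        refine ⟨fun j => a • f (a⁻¹ • j), fun j => ?_, fun j hj => ?_, ?_⟩
        · have h := hmove a _ _ (hf (a⁻¹ • j))
          rwa [smul_inv_smul] at h
        · show a • f (a⁻¹ • j) = 0
          rw [hf' _ (fun ⟨b, hb⟩ => hj ⟨a * b, by rw [mul_smul, hb, smul_inv_smul]⟩), smul_zero]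
        · rw [Finset.smul_sum]
          exact Fintype.sum_equiv (MulAction.toPerm a⁻¹) _ _ fun j => rfl
      · intro h
        obtain ⟨⟨u, hu⟩, hu0⟩ := AddSubgroup.ne_bot_iff_exists_ne_zero.mp (hW0 i₀)
        have hm : u ∈ U' := ⟨Pi.single i₀ u, hsingle i₀ u hu, fun j hj => by
          rcases eq_or_ne j i₀ with rfl | hj'
          · exact absurd ⟨1, one_smul _ _⟩ hj
          · simp [hj'], by simp⟩
        rw [h] at hm
        exact hu0 (Subtype.ext (AddSubgroup.mem_bot.mp hm))
    obtain ⟨⟨u, hu⟩, hu0⟩ := AddSubgroup.ne_bot_iff_exists_ne_zero.mp (hW0 i)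
    obtain ⟨f, hf, hf', hfu⟩ : u ∈ U' := htop ▸ AddSubgroup.mem_top u
    have h := hind (f - Pi.single i u) (fun j => sub_mem (hf j) (hsingle i u hu j))
      (by simp [Finset.sum_sub_distrib, hfu]) i
    rw [Pi.sub_apply, hf' i hne] at h
    exact hu0 (Subtype.ext (by simpa using h))
  have hst : MulAction.stabilizer A i₀ ≠ ⊤ := by
    intro h
    obtain ⟨j, hj⟩ := Fintype.exists_ne_of_one_lt_card (by omega) i₀
    obtain ⟨a, ha⟩ := htrans j
    exact hj (ha.symm.trans (h.ge (Subgroup.mem_top a)))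
  obtain ⟨H, ⟨hle, hH⟩, hHmax⟩ := Set.Finite.exists_maximalFor id
    {M : Subgroup A | MulAction.stabilizer A i₀ ≤ M ∧ M ≠ ⊤} (Set.toFinite _) ⟨_, le_rfl, hst⟩
  have hmax : ∀ M : Subgroup A, H < M → M = ⊤ := fun M hM => by
    by_contra h
    exact not_le_of_gt hM (hHmax (j := M) ⟨hle.trans hM.le, h⟩ hM.le)
  choose t ht using htrans
  let block : ι → A ⧸ H := fun i => QuotientGroup.mk (t i)
  have hblock : ∀ (a : A) (i : ι), block (a • i) = a • block i := fun a i => by
    show (QuotientGroup.mk (t (a • i)) : A ⧸ H) = QuotientGroup.mk (a * t i)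
    rw [QuotientGroup.eq]
    refine hle ?_
    rw [MulAction.mem_stabilizer_iff, mul_smul, mul_smul, ht, inv_smul_eq_iff, ht]
  let W' : A ⧸ H → AddSubgroup V := fun q =>
    { carrier := {x | ∃ f : ι → V, (∀ i, f i ∈ W i) ∧ (∀ i, block i ≠ q → f i = 0) ∧ ∑ i, f i = x}
      zero_mem' := ⟨0, fun _ => zero_mem _, fun _ _ => rfl, by simp⟩
      add_mem' := fun {x y} ⟨f, hf, hf', hx⟩ ⟨g, hg, hg', hy⟩ => ⟨f + g, fun j => add_mem (hf j) (hg j),
        fun j hj => by simp [hf' j hj, hg' j hj], by simp [Finset.sum_add_distrib, hx, hy]⟩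
      neg_mem' := fun {x} ⟨f, hf, hf', hx⟩ => ⟨-f, fun j => neg_mem (hf j),
        fun j hj => by simp [hf' j hj], by simp [hx]⟩ }
  refine triple_of_maximal IH hV hs hirr H hH hmax W' (fun q => ?_) (fun a q v hv => ?_)
    (fun {inst} g hg hsum q => ?_)
  · induction q using QuotientGroup.induction_on with
    | _ a =>
      have hq : block (a • i₀) = (QuotientGroup.mk a : A ⧸ H) := by
        refine (QuotientGroup.eq).2 (hle ?_)
        rw [MulAction.mem_stabilizer_iff, mul_smul, inv_smul_eq_iff, ht]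
      obtain ⟨⟨u, hu⟩, hu0⟩ := AddSubgroup.ne_bot_iff_exists_ne_zero.mp (hW0 (a • i₀))
      intro h
      have hm : u ∈ W' (QuotientGroup.mk a : A ⧸ H) := ⟨Pi.single (a • i₀) u, hsingle _ u hu, fun i hi => by
        rcases eq_or_ne i (a • i₀) with rfl | hi'
        · exact absurd hq hi
        · simp [hi'], by simp⟩
      rw [h, AddSubgroup.mem_bot] at hm
      exact hu0 (Subtype.ext hm)
  · obtain ⟨f, hf, hf', rfl⟩ := hv
    refine ⟨fun i => a • f (a⁻¹ • i), fun i => ?_, fun i hi => ?_, ?_⟩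
    · have h := hmove a _ _ (hf (a⁻¹ • i))
      rwa [smul_inv_smul] at h
    · show a • f (a⁻¹ • i) = 0
      rw [hf' _ (fun e => hi (by rw [← e, ← hblock, smul_inv_smul])), smul_zero]
    · rw [Finset.smul_sum]
      exact Fintype.sum_equiv (MulAction.toPerm a⁻¹) _ _ fun j => rfl
  · choose f hf hf' hfg using hg
    have h0 := hind (fun i => f (block i) i) (fun i => hf _ i) (by
      calc ∑ i, f (block i) i = ∑ i, ∑ r, f r i := Finset.sum_congr rfl fun i _ =>
            (Finset.sum_eq_single (block i) (fun r _ hr => hf' r i (Ne.symm hr))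
              (fun h => absurd (Finset.mem_univ _) h)).symm
        _ = ∑ r, ∑ i, f r i := Finset.sum_comm
        _ = 0 := by rw [Finset.sum_congr rfl fun r _ => hfg r, hsum])
    rw [← hfg q]
    refine Finset.sum_eq_zero fun i _ => ?_
    by_cases hi : block i = q
    · exact hi ▸ h0 i
    · exact hf' q i hi

/-- Three vectors, or all the rings of commutative normal subgroups are fields. -/
theorem triple_or_inv [Nontrivial V] {n : ℕ} (IH : TripleBelow n) (hV : Nat.card V ≤ n + 1)
    (hs : Group.IsSolvable A) (hirr : IsIrr A V) :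
    (∃ u v w : V, ∀ a : A, a • u = u → a • v = v → a • w = w → ∀ x : V, a • x = x) ∨
      ∀ M : Subgroup A, M.Normal → (∀ x ∈ M, ∀ y ∈ M, x * y = y * x) →
        ∀ r ∈ ringOf V M, r ≠ 0 → ∃ s ∈ ringOf V M, r * s = 1 := by
  classical
  by_cases hbad : ∃ M : Subgroup A, M.Normal ∧ (∀ x ∈ M, ∀ y ∈ M, x * y = y * x) ∧
      ∃ e ∈ ringOf V M, e * e = e ∧ e ≠ 0 ∧ e ≠ 1
  swap
  · refine Or.inr fun M hMn hM r hr hr0 => ?_
    haveI := hMn
    rcases zero_or_inv_or_idem hirr hM hr with h | h | ⟨e, he⟩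
    · exact absurd h hr0
    · exact h
    · exact absurd ⟨M, hMn, hM, e, he.1, he.2⟩ hbad
  obtain ⟨M, hMn, hM, e₀, he₀R, he₀, he₀0, he₀1⟩ := hbad
  haveI := hMn
  haveI : Finite (AddMonoid.End V) := Finite.of_injective (fun f => (f : V → V)) DFunLike.coe_injective
  let Idem : AddMonoid.End V → Prop := fun f => f ∈ ringOf V M ∧ f * f = f
  let Atom : AddMonoid.End V → Prop := fun e => Idem e ∧ e ≠ 0 ∧ ∀ f, Idem f → f * e = f → f = 0 ∨ f = e
  have hcomm : ∀ {r s}, r ∈ ringOf V M → s ∈ ringOf V M → r * s = s * r := fun hr hs => ringOf_mul_comm hM hr hs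
  have horth : ∀ e f, Atom e → Atom f → e ≠ f → e * f = 0 := by
    intro e f he hf hne
    have hef : Idem (e * f) := ⟨mul_mem he.1.1 hf.1.1, by
      rw [mul_assoc, ← mul_assoc f e, hcomm hf.1.1 he.1.1, mul_assoc e f, hf.1.2, ← mul_assoc, he.1.2]⟩
    rcases he.2.2 _ hef (by rw [mul_assoc, hcomm hf.1.1 he.1.1, ← mul_assoc, he.1.2]) with h | h
    · exact h
    rcases hf.2.2 _ hef (by rw [mul_assoc, hf.1.2]) with h' | h'
    · exact h'
    exact absurd (h.symm.trans h') hne
  -- an atom below every non-zero idempotent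
  have hbelow : ∀ g, Idem g → g ≠ 0 → ∃ e, Atom e ∧ e * g = e := by
    intro g hg hg0
    obtain ⟨e, ⟨he, he0, heg⟩, hmin⟩ := Set.Finite.exists_minimalFor
      (fun e : AddMonoid.End V => Nat.card (AddMonoidHom.range (e : V →+ V)))
      {e | Idem e ∧ e ≠ 0 ∧ e * g = e} (Set.toFinite _) ⟨g, hg, hg0, hg.2⟩
    refine ⟨e, ⟨he, he0, fun f hf hfe => ?_⟩, heg⟩
    by_cases hf0 : f = 0
    · exact Or.inl hf0
    refine Or.inr ?_
    have hle : AddMonoidHom.range (f : V →+ V) ≤ AddMonoidHom.range (e : V →+ V) := by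
      rintro _ ⟨x, rfl⟩
      refine ⟨f x, ?_⟩
      show (e * f) x = f x
      rw [hcomm he.1 hf.1, hfe]
    have hcard := hmin (j := f) ⟨hf, hf0, by rw [← hfe, mul_assoc, heg]⟩ (AddSubgroup.card_le_of_le hle)
    have heq := AddSubgroup.eq_of_le_of_card_ge hle hcard
    refine AddMonoidHom.ext fun x => ?_
    obtain ⟨y, hy⟩ : e x ∈ AddMonoidHom.range (f : V →+ V) := heq ▸ ⟨x, rfl⟩
    show f x = e x
    conv_lhs => rw [← hfe]
    show f (e x) = e x
    rw [← hy]
    show (f * f) y = f y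
    rw [hf.2]
  let ι := {e : AddMonoid.End V // Atom e}
  letI : Fintype ι := Fintype.ofFinite _
  set s : AddMonoid.End V := ∑ e : ι, e.1 with hs_def
  have hsum : s = 1 := by
    by_contra hne
    have hsR : s ∈ ringOf V M := sum_mem fun e _ => e.2.1.1
    have hse : ∀ e : ι, e.1 * s = e.1 := fun e => by
      rw [hs_def, Finset.mul_sum, Finset.sum_eq_single e]
      · exact e.2.1.2
      · exact fun f _ hf => horth _ _ e.2 f.2 fun h => hf (Subtype.ext h).symm
      · exact fun h => absurd (Finset.mem_univ e) h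
    have hss : s * s = s := by
      conv_lhs => arg 1; rw [hs_def]
      rw [Finset.sum_mul, Finset.sum_congr rfl fun e _ => hse e, ← hs_def]
    obtain ⟨e, he, hes⟩ := hbelow (1 - s) ⟨sub_mem (one_mem _) hsR, by
      simp [sub_mul, mul_sub, hss]⟩ (sub_ne_zero.mpr (Ne.symm hne))
    rw [mul_sub, mul_one, hse ⟨e, he⟩, sub_self] at hes
    exact he.2.1 hes.symm
  have hcardι : 2 ≤ Fintype.card ι := by
    obtain ⟨a₁, ha₁, ha₁e⟩ := hbelow e₀ ⟨he₀R, he₀⟩ he₀0
    obtain ⟨a₂, ha₂, ha₂e⟩ := hbelow (1 - e₀) ⟨sub_mem (one_mem _) he₀R, by simp [sub_mul, mul_sub, he₀]⟩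
      (sub_ne_zero.mpr (Ne.symm he₀1))
    refine Fintype.one_lt_card_iff.mpr ⟨⟨a₁, ha₁⟩, ⟨a₂, ha₂⟩, fun h => ha₂.2.1 ?_⟩
    have h' : a₁ = a₂ := congrArg Subtype.val h
    rw [mul_sub, mul_one, ← h', ha₁e, sub_self] at ha₂e
    rw [← h', ← ha₂e]
  have hconjAtom : ∀ (a : A) e, Atom e → Atom (conjEnd a e) := by
    intro a e he
    have hI : ∀ (b : A) (f : AddMonoid.End V), Idem f → Idem (conjEnd b f) := fun b f hf =>
      ⟨conjEnd_mem_ringOf b hf.1, by rw [← conjEnd_mul, hf.2]⟩
    have hz : ∀ (b : A) (f : AddMonoid.End V), conjEnd b f = (0 : AddMonoid.End V) → f = 0 := fun b f h => by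
      have := congrArg (conjEnd b⁻¹) h
      rw [conjEnd_conjEnd, inv_mul_cancel, conjEnd_one] at this
      rw [this]
      simp [conjEnd]
    refine ⟨hI a e he.1, fun h => he.2.1 (hz a e h), fun f hf hfe => ?_⟩
    have h1 : conjEnd a⁻¹ f * e = conjEnd a⁻¹ f := by
      have := congrArg (conjEnd a⁻¹) hfe
      rwa [conjEnd_mul, conjEnd_conjEnd a⁻¹ a e, inv_mul_cancel, conjEnd_one] at this
    rcases he.2.2 _ (hI a⁻¹ f hf) h1 with h | h
    · exact Or.inl (hz a⁻¹ f h)
    · refine Or.inr ?_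
      rw [← h, conjEnd_conjEnd, mul_inv_cancel, conjEnd_one]
  letI : MulAction A ι :=
    { smul := fun a e => ⟨conjEnd a e.1, hconjAtom a e.1 e.2⟩
      one_smul := fun e => Subtype.ext (conjEnd_one e.1)
      mul_smul := fun a b e => Subtype.ext (conjEnd_conjEnd a b e.1).symm }
  let W : ι → AddSubgroup V := fun e => AddMonoidHom.range (e.1 : V →+ V)
  refine Or.inl (triple_of_system IH hV hs hirr hcardι W (fun e h => e.2.2.1 (AddMonoidHom.ext fun x => ?_))
    (fun a e v hv => ?_) fun f hf hsum0 e => ?_)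
  · have hx : e.1 x ∈ W e := ⟨x, rfl⟩
    rw [h, AddSubgroup.mem_bot] at hx
    exact hx
  · obtain ⟨x, rfl⟩ := hv
    exact ⟨a • x, (smul_apply_eq_conjEnd a e.1 x).symm⟩
  · have hproj : ∀ g : ι, e.1 (f g) = if g = e then f e else 0 := by
      intro g
      obtain ⟨x, hx⟩ := hf g
      show _ = _
      rw [← hx]
      split_ifs with h
      · subst h
        rw [← hx]
        show (g.1 * g.1) x = g.1 x
        rw [g.2.1.2]
      · show (e.1 * g.1) x = 0
        rw [horth _ _ e.2 g.2 fun h' => h (Subtype.ext h').symm]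
        rfl
    have h := congrArg e.1 hsum0
    rw [map_sum, map_zero, Finset.sum_congr rfl fun g _ => hproj g, Finset.sum_ite_eq' Finset.univ e,
      if_pos (Finset.mem_univ e)] at h
    exact h

end CfsgLib.ThreeVec49
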